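import Mathlib.RingTheory.LaurentSeries
import Mathlib.RingTheory.Henselian
import Mathlib.FieldTheory.IsSepClosed
import Mathlib.RingTheory.RootsOfUnity.AlgebraicallyClosed
import Mathlib.RingTheory.Nilpotent.Lemmas
import Mathlib.RingTheory.Noetherian.Nilpotent
import Mathlib.RingTheory.PowerSeries.Inverse

/-!
# Laurent series and adjoining roots of the variable
-/

universe u
open HahnSeries

namespace Groth.Agent.LaurentRoot7

variable {R : Type u} [CommRing R]

/-- The substitution `s ↦ z * s`. -/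
noncomputable def scale (z : Rˣ) : LaurentSeries R →+* LaurentSeries R where
  toFun x := { coeff := fun i => ((z ^ i : Rˣ) : R) * x.coeff i
               isPWO_support' := x.isPWO_support.mono fun i hi h => hi (by show _ * x.coeff i = 0; rw [h, mul_zero]) }
  map_one' := by
    ext i
    show _ * (1 : LaurentSeries R).coeff i = _
    rw [coeff_one]
    split_ifs with h <;> simp [h]
  map_mul' x y := by
    ext i
    show ((z ^ i : Rˣ) : R) * (x * y).coeff i = _
    rw [coeff_mul, Finset.mul_sum]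
    refine Eq.trans ?_ (coeff_mul_left' x.isPWO_support fun j hj h => hj (by simp [h])).symm
    refine Eq.trans (Finset.sum_congr rfl fun ij hij => ?_) (Finset.sum_subset ?_ ?_).symm
    · rw [Finset.mem_antidiagonal] at hij
      show _ = (((z ^ ij.1 : Rˣ) : R) * x.coeff ij.1) * (((z ^ ij.2 : Rˣ) : R) * y.coeff ij.2)
      rw [← hij.2.2, zpow_add, Units.val_mul]
      ring
    · intro ij hij
      rw [Finset.mem_antidiagonal] at hij ⊢
      exact ⟨hij.1, fun h => hij.2.1 (by simp [h]), hij.2.2⟩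
    · intro ij hij hn
      rw [Finset.mem_antidiagonal] at hij hn
      have : ((z ^ ij.2 : Rˣ) : R) * y.coeff ij.2 = 0 := not_not.1 fun h => hn ⟨hij.1, h, hij.2.2⟩
      show _ * (((z ^ ij.2 : Rˣ) : R) * y.coeff ij.2) = 0
      rw [this, mul_zero]
  map_zero' := by ext i; exact mul_zero _
  map_add' x y := by ext i; exact mul_add _ _ _

@[simp]
theorem scale_coeff (z : Rˣ) (x : LaurentSeries R) (i : ℤ) : (scale z x).coeff i = ((z ^ i : Rˣ) : R) * x.coeff i :=
  rfl

variable {d : ℕ} (hinj : Function.Injective (AddMonoidHom.mulLeft (d : ℤ)))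
  (hmono : ∀ g g' : ℤ, AddMonoidHom.mulLeft (d : ℤ) g ≤ AddMonoidHom.mulLeft (d : ℤ) g' ↔ g ≤ g')

theorem emb_coeff (x : LaurentSeries R) (i : ℤ) :
    (HahnSeries.embDomainRingHom (R := R) (AddMonoidHom.mulLeft (d : ℤ)) hinj hmono x).coeff (d * i) = x.coeff i :=
  embDomain_coeff (f := ⟨⟨AddMonoidHom.mulLeft (d : ℤ), hinj⟩, hmono _ _⟩) (x := x) (a := i)

theorem emb_coeff_of_not_dvd (x : LaurentSeries R) {i : ℤ} (hi : ¬ (d : ℤ) ∣ i) :
    (HahnSeries.embDomainRingHom (R := R) (AddMonoidHom.mulLeft (d : ℤ)) hinj hmono x).coeff i = 0 :=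
  embDomain_of_notMem_range fun ⟨j, hj⟩ => hi ⟨j, hj.symm⟩

theorem emb_injective :
    Function.Injective (HahnSeries.embDomainRingHom (R := R) (AddMonoidHom.mulLeft (d : ℤ)) hinj hmono) :=
  fun x y h => by
    ext i
    rw [← emb_coeff hinj hmono x i, h, emb_coeff]

theorem scale_emb {z : Rˣ} (hz : z ^ d = 1) :
    (scale z).comp (HahnSeries.embDomainRingHom (R := R) (AddMonoidHom.mulLeft (d : ℤ)) hinj hmono) =
      HahnSeries.embDomainRingHom (R := R) (AddMonoidHom.mulLeft (d : ℤ)) hinj hmono := by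
  refine RingHom.ext fun x => HahnSeries.ext (funext fun i => ?_)
  rw [RingHom.comp_apply, scale_coeff]
  by_cases hi : (d : ℤ) ∣ i
  · obtain ⟨j, rfl⟩ := hi
    rw [zpow_mul, zpow_natCast, hz, one_zpow, Units.val_one, one_mul]
  · rw [emb_coeff_of_not_dvd hinj hmono x hi, mul_zero]

theorem mem_range_of_scale_eq (hd : 0 < d) {z : Rˣ} (hz : ∀ i : ℤ, ¬ (d : ℤ) ∣ i → IsUnit (((z ^ i : Rˣ) : R) - 1))
    {x : LaurentSeries R} (hx : scale z x = x) :
    x ∈ Set.range (HahnSeries.embDomainRingHom (R := R) (AddMonoidHom.mulLeft (d : ℤ)) hinj hmono) := by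
  have hb : BddBelow (Function.support fun i : ℤ => x.coeff ((d : ℤ) * i)) := by
    rcases (Function.support x.coeff).eq_empty_or_nonempty with h | h
    · refine ⟨0, fun i hi => absurd hi ?_⟩
      simp [Function.support_eq_empty_iff.1 h]
    · refine ⟨min (x.isPWO_support.isWF.min h) 0, fun i hi => ?_⟩
      by_contra hlt
      rw [not_le, lt_min_iff] at hlt
      have h1 := x.isPWO_support.isWF.min_le h (show (d : ℤ) * i ∈ Function.support x.coeff from hi)
      have : (d : ℤ) * i ≤ i := by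
        have : (1 : ℤ) ≤ d := by exact_mod_cast hd
        nlinarith
      omega
  refine ⟨HahnSeries.ofSuppBddBelow _ hb, HahnSeries.ext (funext fun i => ?_)⟩
  by_cases hi : (d : ℤ) ∣ i
  · obtain ⟨j, rfl⟩ := hi
    rw [emb_coeff]
    rfl
  · rw [emb_coeff_of_not_dvd hinj hmono _ hi]
    have h1 := congrArg (fun y : LaurentSeries R => y.coeff i) hx
    simp only [scale_coeff] at h1
    refine ((hz i hi).mul_right_eq_zero.1 ?_).symm
    rw [sub_mul, one_mul, h1, sub_self]

variable {S : Type u} [CommRing S] (f : R →+* S) (ρ : LaurentSeries R →+* LaurentSeries S)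
  (hρ : ρ.comp (HahnSeries.ofPowerSeries ℤ R) = (HahnSeries.ofPowerSeries ℤ S).comp (PowerSeries.map f))

include hρ in
/-- Ring maps extending a map of power series act coefficientwise. -/
theorem map_coeff (x : LaurentSeries R) (i : ℤ) : (ρ x).coeff i = f (x.coeff i) := by
  obtain ⟨⟨P, _, n, rfl⟩, hP⟩ := IsLocalization.surj (Submonoid.powers (PowerSeries.X : PowerSeries R)) x
  replace hP : x * HahnSeries.single (n : ℤ) 1 = HahnSeries.ofPowerSeries ℤ R P := by
    rw [← HahnSeries.ofPowerSeries_X_pow]; exact hP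
  have hX : ρ (HahnSeries.single (n : ℤ) 1) = HahnSeries.single (n : ℤ) 1 := by
    rw [← HahnSeries.ofPowerSeries_X_pow, ← RingHom.comp_apply, hρ, RingHom.comp_apply, map_pow,
      PowerSeries.map_X, HahnSeries.ofPowerSeries_X_pow]
  have h1 : ρ x * HahnSeries.single (n : ℤ) 1 = HahnSeries.ofPowerSeries ℤ S (PowerSeries.map f P) := by
    rw [← hX, ← map_mul, hP, ← RingHom.comp_apply, hρ]
    rfl
  have h2 := congrArg (fun y : LaurentSeries S => y.coeff (i + n)) h1
  have h3 := congrArg (fun y : LaurentSeries R => y.coeff (i + n)) hP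
  simp only [HahnSeries.coeff_mul_single_add, mul_one] at h2 h3
  rw [h2, h3]
  rcases le_or_gt 0 (i + (n : ℤ)) with h | h
  · obtain ⟨m, hm⟩ := Int.eq_ofNat_of_zero_le h
    rw [hm, LaurentSeries.coeff_coe_powerSeries, LaurentSeries.coeff_coe_powerSeries, PowerSeries.coeff_map]
  · rw [HahnSeries.ofPowerSeries_apply, HahnSeries.ofPowerSeries_apply,
      HahnSeries.embDomain_of_notMem_range, HahnSeries.embDomain_of_notMem_range, map_zero]
    all_goals
      rintro ⟨m, hm⟩
      simp at hm
      omega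

include hρ in
theorem map_emb :
    ρ.comp (HahnSeries.embDomainRingHom (R := R) (AddMonoidHom.mulLeft (d : ℤ)) hinj hmono) =
      (HahnSeries.embDomainRingHom (R := S) (AddMonoidHom.mulLeft (d : ℤ)) hinj hmono).comp ρ := by
  refine RingHom.ext fun x => HahnSeries.ext (funext fun i => ?_)
  rw [RingHom.comp_apply, RingHom.comp_apply, map_coeff f ρ hρ]
  by_cases hi : (d : ℤ) ∣ i
  · obtain ⟨j, rfl⟩ := hi
    rw [emb_coeff, emb_coeff, map_coeff f ρ hρ]
  · rw [emb_coeff_of_not_dvd hinj hmono _ hi, emb_coeff_of_not_dvd hinj hmono _ hi, map_zero]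

include hρ in
theorem map_scale (z : Rˣ) : ρ.comp (scale z) = (scale (Units.map (f : R →* S) z)).comp ρ := by
  refine RingHom.ext fun x => HahnSeries.ext (funext fun i => ?_)
  rw [RingHom.comp_apply, RingHom.comp_apply, map_coeff f ρ hρ, scale_coeff, scale_coeff, map_coeff f ρ hρ,
    map_mul, ← map_zpow]
  rfl

/-- Ring maps on coefficients. -/
noncomputable def mapH {R S : Type u} [CommRing R] [CommRing S] (f : R →+* S) : LaurentSeries R →+* LaurentSeries S where
  toFun x := HahnSeries.map x f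
  map_one' := by ext i; simp [HahnSeries.coeff_one, apply_ite f]
  map_mul' x y := HahnSeries.map_mul (f : R →ₙ+* S)
  map_zero' := by ext i; simp
  map_add' x y := by ext i; simp

theorem coeff_mul_mem {R : Type u} [CommRing R] {I J : Ideal R} {x y : LaurentSeries R} (hx : ∀ i, x.coeff i ∈ I)
    (hy : ∀ i, y.coeff i ∈ J) (i : ℤ) : (x * y).coeff i ∈ I * J := by
  rw [HahnSeries.coeff_mul]
  exact Ideal.sum_mem _ fun ij _ => Ideal.mul_mem_mul (hx _) (hy _)

theorem eq_zero_of_isIdempotentElem_of_coeff_nilpotent {R : Type u} [CommRing R] {e : LaurentSeries R}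
    (he : IsIdempotentElem e) (h : ∀ i, IsNilpotent (e.coeff i)) : e = 0 := by
  classical
  obtain ⟨b, hb⟩ : ∃ b : ℕ, ∀ i : ℤ, i < -(b : ℤ) → e.coeff i = 0 := by
    rcases (Function.support e.coeff).eq_empty_or_nonempty with h0 | h0
    · exact ⟨0, fun i _ => by simp [Function.support_eq_empty_iff.1 h0]⟩
    · refine ⟨(e.isPWO_support.isWF.min h0).natAbs, fun i hi => by_contra fun hne => ?_⟩
      have := e.isPWO_support.isWF.min_le h0 (show i ∈ Function.support e.coeff from hne)
      omega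
  let s : Finset R := (Finset.range b).image fun k : ℕ => e.coeff (-(k : ℤ) - 1)
  let I := Ideal.span (s : Set R)
  obtain ⟨k, hk⟩ : IsNilpotent I := by
    refine (Ideal.FG.isNilpotent_iff_le_nilradical ⟨s, rfl⟩).2 (Ideal.span_le.2 ?_)
    rintro x hx
    obtain ⟨k, -, rfl⟩ := Finset.mem_image.1 hx
    exact h _
  let mk := Ideal.Quotient.mk I
  have hneg : ∀ i : ℤ, i < 0 → (mapH mk e).coeff i = 0 := by
    intro i hi
    show mk (e.coeff i) = 0
    by_cases h1 : i < -(b : ℤ)
    · rw [hb i h1, map_zero]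
    · refine Ideal.Quotient.eq_zero_iff_mem.2 (Ideal.subset_span ?_)
      exact Finset.mem_image.2 ⟨(-i - 1).toNat, Finset.mem_range.2 (by omega), by congr 1; omega⟩
  let P : PowerSeries (R ⧸ I) := PowerSeries.mk fun n : ℕ => (mapH mk e).coeff n
  have hP : HahnSeries.ofPowerSeries ℤ (R ⧸ I) P = mapH mk e := by
    ext i
    rcases le_or_gt 0 i with hi | hi
    · obtain ⟨m, rfl⟩ := Int.eq_ofNat_of_zero_le hi
      rw [LaurentSeries.coeff_coe_powerSeries, PowerSeries.coeff_mk]
    · rw [hneg i hi, HahnSeries.ofPowerSeries_apply, HahnSeries.embDomain_of_notMem_range]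
      rintro ⟨m, hm⟩
      simp at hm
      omega
  have hPe : P * P = P := HahnSeries.ofPowerSeries_injective (Γ := ℤ) (by rw [map_mul, hP]; exact (he.map (mapH mk)).eq)
  have hu : IsUnit (1 - P) := by
    rw [PowerSeries.isUnit_iff_constantCoeff, map_sub, map_one]
    refine IsNilpotent.isUnit_one_sub ?_
    rw [← PowerSeries.coeff_zero_eq_constantCoeff_apply, PowerSeries.coeff_mk]
    exact (h _).map mk
  have hP0 : P = 0 := by
    refine (hu.mul_right_eq_zero).1 ?_
    rw [sub_mul, one_mul, hPe, sub_self]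
  have hI : ∀ i, e.coeff i ∈ I := fun i => by
    rw [← Ideal.Quotient.eq_zero_iff_mem, show Ideal.Quotient.mk I (e.coeff i) = (mapH mk e).coeff i from rfl, ← hP,
      hP0, map_zero, HahnSeries.coeff_zero]
  have hpow : ∀ (n : ℕ) (i : ℤ), e.coeff i ∈ I ^ (n + 1) := fun n => by
    induction n with
    | zero => intro i; rw [pow_one]; exact hI i
    | succ n ih => intro i; rw [← he.eq, pow_succ]; exact coeff_mul_mem ih hI i
  ext i
  have h1 : e.coeff i ∈ I ^ k * I := by rw [← pow_succ]; exact hpow k i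
  rw [hk] at h1
  simpa using h1

/-- Laurent series over a local ring have connected spectrum. -/
theorem eq_zero_or_one_of_isIdempotentElem {R : Type u} [CommRing R] [IsLocalRing R] {e : LaurentSeries R}
    (he : IsIdempotentElem e) : e = 0 ∨ e = 1 := by
  have hp : ∀ (p : Ideal R), p.IsPrime → (∀ i, i ≠ 0 → e.coeff i ∈ p) ∧ (e.coeff 0 ∈ p ∨ 1 - e.coeff 0 ∈ p) := by
    intro p hp
    rcases IsIdempotentElem.iff_eq_zero_or_one.1 (he.map (mapH (Ideal.Quotient.mk p))) with h | h
    · have h0 : ∀ i, e.coeff i ∈ p := fun i => Ideal.Quotient.eq_zero_iff_mem.1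
        (show (mapH (Ideal.Quotient.mk p) e).coeff i = 0 by rw [h]; rfl)
      exact ⟨fun i _ => h0 i, Or.inl (h0 0)⟩
    · have h0 : ∀ i, Ideal.Quotient.mk p (e.coeff i) = if i = 0 then 1 else 0 := fun i => by
        rw [show Ideal.Quotient.mk p (e.coeff i) = (mapH (Ideal.Quotient.mk p) e).coeff i from rfl, h,
          HahnSeries.coeff_one]
        congr
      refine ⟨fun i hi => Ideal.Quotient.eq_zero_iff_mem.1 (by rw [h0, if_neg hi]), Or.inr ?_⟩
      rw [← Ideal.Quotient.eq_zero_iff_mem, map_sub, map_one, h0, if_pos rfl, sub_self]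
  have hne : ∀ i, i ≠ 0 → IsNilpotent (e.coeff i) := fun i hi =>
    mem_nilradical.1 (by rw [nilradical_eq_sInf, Ideal.mem_sInf]; exact fun {p} hp' => (hp p hp').1 i hi)
  rcases IsLocalRing.isUnit_or_isUnit_one_sub_self (e.coeff 0) with hu | hu
  · refine Or.inr (sub_eq_zero.1 ?_).symm
    refine eq_zero_of_isIdempotentElem_of_coeff_nilpotent he.one_sub fun i => ?_
    by_cases hi : i = 0
    · subst hi
      refine mem_nilradical.1 ?_
      rw [nilradical_eq_sInf, Ideal.mem_sInf]
      intro p hp'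
      rw [HahnSeries.coeff_sub, HahnSeries.coeff_one, if_pos rfl]
      exact ((hp p hp').2.resolve_left fun h => hp'.ne_top (p.eq_top_of_isUnit_mem h hu) : _)
    · rw [HahnSeries.coeff_sub, HahnSeries.coeff_one, if_neg hi, zero_sub]
      exact (hne i hi).neg
  · refine Or.inl (eq_zero_of_isIdempotentElem_of_coeff_nilpotent he fun i => ?_)
    by_cases hi : i = 0
    · subst hi
      refine mem_nilradical.1 ?_
      rw [nilradical_eq_sInf, Ideal.mem_sInf]
      intro p hp'
      exact (hp p hp').2.resolve_right fun h => hp'.ne_top (p.eq_top_of_isUnit_mem h hu)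
    · exact hne i hi

theorem exists_root {R : Type u} [CommRing R] [HenselianLocalRing R] [IsSepClosed (IsLocalRing.ResidueField R)]
    (d : ℕ) (hd : 0 < d) (hdu : IsUnit (d : R)) :
    ∃ z : Rˣ, z ^ d = 1 ∧ ∀ i : ℤ, ¬ (d : ℤ) ∣ i → IsUnit (((z ^ i : Rˣ) : R) - 1) := by
  let k := IsLocalRing.ResidueField R
  let π := IsLocalRing.residue R
  haveI : NeZero (d : k) := ⟨by rw [← map_natCast π]; exact (hdu.map π).ne_zero⟩
  obtain ⟨w, hw⟩ := HasEnoughRootsOfUnity.exists_primitiveRoot k d
  obtain ⟨a₀, ha₀⟩ := IsLocalRing.residue_surjective w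
  have hw0 : w ≠ 0 := hw.ne_zero hd.ne'
  obtain ⟨a, ha, hclose⟩ := HenselianLocalRing.is_henselian (Polynomial.X ^ d - Polynomial.C 1 : Polynomial R)
    (Polynomial.monic_X_pow_sub_C 1 hd.ne') a₀
    (by rw [← IsLocalRing.residue_eq_zero_iff]; simp [ha₀, π, hw.pow_eq_one])
    (by
      simp only [Polynomial.derivative_sub, Polynomial.derivative_X_pow, Polynomial.derivative_C, sub_zero,
        Polynomial.eval_mul, Polynomial.eval_C, Polynomial.eval_pow, Polynomial.eval_X]
      refine hdu.mul (IsUnit.pow _ ?_)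
      rw [← not_not (a := IsUnit a₀), ← mem_nonunits_iff, ← IsLocalRing.mem_maximalIdeal,
        ← IsLocalRing.residue_eq_zero_iff, ha₀]
      exact hw0)
  have had : a ^ d = 1 := by simpa [Polynomial.IsRoot, sub_eq_zero] using ha
  let z : Rˣ := Units.ofPowEqOne a d had hd.ne'
  have hzw : Units.map (π : R →* k) z = (hw.isUnit hd.ne').unit := by
    refine Units.ext ?_
    show π a = w
    rw [← ha₀, ← sub_eq_zero, ← map_sub, IsLocalRing.residue_eq_zero_iff]
    exact hclose
  refine ⟨z, Units.ext (by simpa [z] using had), fun i hi => ?_⟩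
  rw [← not_not (a := IsUnit _), ← mem_nonunits_iff, ← IsLocalRing.mem_maximalIdeal,
    ← IsLocalRing.residue_eq_zero_iff, map_sub, map_one, sub_eq_zero]
  intro h
  refine hi ((hw.isUnit_unit hd.ne').zpow_eq_one_iff_dvd i |>.1 (Units.ext ?_))
  rw [← hzw, ← map_zpow]
  exact h

end Groth.Agent.LaurentRoot7
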